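import Cfsg.Agent.Lib.TwMax.RatCent
import Cfsg.Agent.Lib.LieTwisted.Twist.E6Thms
import Cfsg.Agent.Lib.ChevFold.Apply
import Cfsg.Agent.Lib.ChevAut.Diagonal

/-!
Three classes of subgroups of ²E₆(2) isomorphic to F₄(2): the rational graph-fixed subgroup and its
images under the outer diagonal automorphisms.
-/

set_option autoImplicit false
set_option linter.unusedSectionVars false

namespace Cfsg.Agent.Lib.TwMax.E6F4

open Cfsg.Lie
open Cfsg.Agent.Lib.ChevStructure Cfsg.Agent.Lib.LieTwisted.Twist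
open Cfsg.Agent.Lib.ChevFold (settingE6)
open scoped MatrixGroups

variable {K : Type*} [Field K]

theorem T_conj_xS {D : ChevalleyDatum} {C : Core D} (O : Orth C K) (χ : Fin D.rank → Kˣ)
    (hχ : ∀ i, χ (O.ρ i) = Units.map (O.φ : K →* K) (χ i)) (s : Bool) (i : Fin D.rank) (t : K)
    (ht : O.Valid i t) :
    ∃ u : K, O.Valid i u ∧ C.T K χ * O.xS s i t * (C.T K χ)⁻¹ = O.xS s i u := by
  have hit : ∀ k, χ ((O.ρ : _ → _)^[k] i) = (Units.map (O.φ : K →* K) : Kˣ → Kˣ)^[k] (χ i) := by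
    intro k
    induction k with
    | zero => rfl
    | succ k ih => rw [Function.iterate_succ_apply', Function.iterate_succ_apply', hχ, ih]
  have hsd : ∀ j, C.chr K χ (sd s (C.p j)) = cond s (χ j)⁻¹ (χ j) := by
    intro j
    cases s <;> simp [sd, C.chr_rev, chr_p]
  let e : Kˣ := cond s (χ i)⁻¹ (χ i)
  have hv : ∀ k, (((C.chr K χ (sd s (C.p ((O.ρ : _ → _)^[k] i))) : Kˣ) : K)) = (O.φ : K → K)^[k] (e : K) := by
    intro k
    have h2 : C.chr K χ (sd s (C.p ((O.ρ : _ → _)^[k] i))) = (Units.map (O.φ : K →* K) : Kˣ → Kˣ)^[k] e := by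
      rw [hsd, hit]
      cases s
      · rfl
      · exact (iterate_map_inv (Units.map (O.φ : K →* K)) k (χ i)).symm
    rw [h2]
    clear h2
    induction k with
    | zero => rfl
    | succ k ih => rw [Function.iterate_succ_apply', Function.iterate_succ_apply', Units.coe_map, ih]; rfl
  refine ⟨(e : K) * t, ?_, ?_⟩
  · unfold Orth.Valid at ht ⊢
    rw [O.φ_iter_mul, ht, ← hv, O.ρ_sz, hsd]
  · show MulAut.conj (C.T K χ) (O.xS s i t) = _
    rw [Orth.xS, Orth.oprod, map_list_prod, List.map_map, Orth.xS, Orth.oprod]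
    refine congrArg List.prod (List.map_congr_left fun k _ => ?_)
    show C.T K χ * C.X K _ _ * (C.T K χ)⁻¹ = _
    rw [C.T_X_conj, hv, O.φ_iter_mul]

theorem T_normalises {D : ChevalleyDatum} {C : Core D} (O : Orth C K) (χ : Fin D.rank → Kˣ)
    (hχ : ∀ i, χ (O.ρ i) = Units.map (O.φ : K →* K) (χ i)) :
    O.G1.map (MulAut.conj (C.T K χ)).toMonoidHom ≤ O.G1 := by
  rw [Orth.G1, MonoidHom.map_closure, Subgroup.closure_le]
  rintro _ ⟨_, ⟨m, s, t, ht, rfl⟩, rfl⟩
  obtain ⟨u, hu, e⟩ := T_conj_xS O χ hχ s (O.os m) t ht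
  exact Subgroup.subset_closure ⟨m, s, u, hu, e⟩

section Main

variable [Fintype K] {φ : K ≃+* K} (F : Frob.Facts K 2 2 φ) (hK : Fintype.card K = 2 ^ 2) (ι : ZMod 2 →+* K)

/-- The rational part of the twisted group. -/
noncomputable def ratSub : Subgroup (GL chevE6.Idx K) :=
  (E6.orth F one_lt_two hK).tw.W ⊓ (chevE6.group (ZMod 2)).map (Matrix.GeneralLinearGroup.map ι)

theorem φ_ι (t : ZMod 2) : φ (ι t) = ι t :=
  DFunLike.congr_fun (RingHom.ext_zmod ((φ : K →+* K).comp ι) ι) t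

theorem map_mem_W_iff (x : ↥(chevE6.group (ZMod 2))) :
    Matrix.GeneralLinearGroup.map ι (x : GL chevE6.Idx (ZMod 2)) ∈ (E6.orth F one_lt_two hK).tw.W ↔
      settingE6.theta (ZMod 2) (x : GL chevE6.Idx (ZMod 2)) = x := by
  have key : (E6.orth F one_lt_two hK).Θ.toMonoidHom.comp
      ((Matrix.GeneralLinearGroup.map ι).comp (chevE6.group (ZMod 2)).subtype) =
      (Matrix.GeneralLinearGroup.map ι).comp
        ((settingE6.theta (ZMod 2)).toMonoidHom.comp (chevE6.group (ZMod 2)).subtype) := by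
    refine MonoidHom.eq_of_eqOn_dense (ChevAut.closure_GX E6.C (ZMod 2)) ?_
    rintro _ ⟨⟨r, t⟩, rfl⟩
    show (E6.orth F one_lt_two hK).Θ (Matrix.GeneralLinearGroup.map ι (E6.C.X (ZMod 2) r t)) =
      Matrix.GeneralLinearGroup.map ι (settingE6.theta (ZMod 2) (E6.C.X (ZMod 2) r t))
    rw [E6.C.X_map, (E6.orth F one_lt_two hK).Θ_X]
    erw [settingE6.theta_X (ZMod 2) r t, E6.C.X_map]
    rw [show (E6.orth F one_lt_two hK).φ (ι t) = ι t from φ_ι ι t, map_mul, map_intCast]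
    rfl
  have hx : (E6.orth F one_lt_two hK).Θ (Matrix.GeneralLinearGroup.map ι (x : GL chevE6.Idx (ZMod 2))) =
      Matrix.GeneralLinearGroup.map ι (settingE6.theta (ZMod 2) (x : GL chevE6.Idx (ZMod 2))) :=
    DFunLike.congr_fun key x
  rw [Tw.mem_W_iff]
  constructor
  · intro h
    exact ChevFixed.map_injective ι ι.injective (hx.symm.trans h.2)
  · intro h
    exact ⟨ChevFixed.map_group_le E6.C ι ⟨_, x.2, rfl⟩, hx.trans (congrArg _ h)⟩

/-- The rational part of ²E₆(2) is F₄(2). -/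
theorem ratSub_iso : Nonempty (↥(ratSub F hK ι) ≃* ↥(chevF4.group (ZMod 2))) := by
  let f : ↥(chevE6.group (ZMod 2)) →* GL chevE6.Idx K :=
    (Matrix.GeneralLinearGroup.map ι).comp (chevE6.group (ZMod 2)).subtype
  have hf : Function.Injective f := fun a b h => Subtype.ext (ChevFixed.map_injective ι ι.injective h)
  let K0 : Subgroup ↥(chevE6.group (ZMod 2)) := (E6.orth F one_lt_two hK).tw.W.comap f
  have hK0 : K0.map f = ratSub F hK ι := by
    ext z
    constructor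
    · rintro ⟨x, hx, rfl⟩
      exact ⟨hx, ⟨_, x.2, rfl⟩⟩
    · rintro ⟨hz, x, hx, rfl⟩
      exact ⟨⟨x, hx⟩, hz, rfl⟩
  obtain ⟨e⟩ := settingE6.fixed_iso ChevFold.hfix_E6
    (fun c c' hc => ChevFixed.HT_injective _ ChevFixed.invCartan_F4 (fun x hx => by rwa [pow_one] at hx) hc)
    K0 (fun x => map_mem_W_iff F hK ι x)
  exact ⟨((K0.equivMapOfInjective f hf).trans (MulEquiv.subgroupCongr hK0)).symm.trans e⟩

theorem xS_one_mem (m : Fin (E6.orth F one_lt_two hK).nn) :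
    (E6.orth F one_lt_two hK).xS false ((E6.orth F one_lt_two hK).os m) 1 ∈ ratSub F hK ι := by
  refine ⟨(E6.orth F one_lt_two hK).xS_mem _ ((E6.orth F one_lt_two hK).valid_one _), ?_⟩
  refine list_prod_mem fun x hx => ?_
  rw [List.mem_map] at hx
  obtain ⟨k, -, rfl⟩ := hx
  have hmem : ∀ r : Rt chevE6, E6.C.X K r 1 ∈ (chevE6.group (ZMod 2)).map (Matrix.GeneralLinearGroup.map ι) :=
    fun r => ⟨E6.C.X (ZMod 2) r 1, E6.C.X_mem_group _ _, by rw [E6.C.X_map, map_one]⟩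
  beta_reduce
  rw [Orth.φ_iter_one]
  exact hmem _

theorem orbit_mem (m : Fin (E6.orth F one_lt_two hK).nn) :
    E6.C.wprod K ((E6.orth F one_lt_two hK).Jl m) ∈ ratSub F hK ι :=
  ⟨(E6.orth F one_lt_two hK).P_orbit_mem m,
    ⟨E6.C.wprod (ZMod 2) ((E6.orth F one_lt_two hK).Jl m),
      E6.C.monomial_le_group (E6.C.wprod_mem_monomial _), ChevFixed.map_wprod E6.C ι _⟩⟩

theorem map_T (σ : K →+* K) (χ : Fin chevE6.rank → Kˣ) :
    Matrix.GeneralLinearGroup.map σ (E6.C.T K χ) = E6.C.T K (fun i => Units.map σ.toMonoidHom (χ i)) := by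
  refine Units.ext ?_
  show ((E6.C.T K χ : GL chevE6.Idx K) : Matrix chevE6.Idx chevE6.Idx K).map σ = _
  simp only [Core.T, Core.diag]
  rw [Matrix.diagonal_map (map_zero σ)]
  refine congrArg Matrix.diagonal (funext fun x => ?_)
  rcases x with x | x
  · simp
  · simp only [Sum.elim_inr, Function.comp_apply, Core.chr]
    show σ _ = _
    rw [show σ _ = ((Units.map σ.toMonoidHom (∏ m, χ m ^ E6.C.v x m) : Kˣ) : K) from rfl, map_prod]
    simp only [map_zpow]

/-- The invariant of a torus element of the simply connected group. -/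
theorem prod_chA (c : Fin chevE6.rank → Kˣ) (j : Fin chevE6.rank) :
    ∏ m, E6.C.chA c (E6.C.p m) ^ E6.invA j m = c j ^ (3 : ℤ) := by
  simp only [Core.chA, E6.p_eq, ← Finset.prod_zpow, ← zpow_mul]
  rw [Finset.prod_comm, Finset.prod_eq_single j]
  · rw [← E6.C.zpow_fsum]
    congr 1
    rw [Finset.sum_congr rfl fun m _ => mul_comm _ _, E6.invA_spec, if_pos rfl]
  · intro k _ hk
    rw [← E6.C.zpow_fsum, Finset.sum_congr rfl fun m _ => mul_comm _ _, E6.invA_spec, if_neg hk, zpow_zero]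
  · simp

/-- The diagonal element of order three. -/
def chi (ω : Kˣ) : Fin chevE6.rank → Kˣ := ![ω, 1, 1, 1, 1, ω ^ 2]

theorem chi_one : chi (1 : Kˣ) = 1 := by
  funext i
  rcases E6.node_cases i with rfl | rfl | rfl | rfl | rfl | rfl <;>
    first | rfl | exact one_pow 2

theorem chi_mul (a b : Kˣ) : chi (a * b) = chi a * chi b := by
  funext i
  rcases E6.node_cases i with rfl | rfl | rfl | rfl | rfl | rfl <;>
    first | rfl | exact (one_mul 1).symm | exact mul_pow a b 2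

include F in
theorem cube_one (hK : Fintype.card K = 2 ^ 2) (a : Kˣ) : a ^ 3 = 1 := by
  have h : Nat.card Kˣ = 3 := by rw [F.card_units]; norm_num
  rw [← h]
  exact pow_card_eq_one'

theorem chi_twist (ω : Kˣ) (i : Fin chevE6.rank) :
    chi ω ((E6.orth F one_lt_two hK).ρ i) = Units.map (φ : K →* K) (chi ω i) := by
  have hu : ∀ a : Kˣ, Units.map (φ : K →* K) a = a ^ 2 := fun a => Units.ext (F.apply _)
  have h4 : ω = (ω ^ 2) ^ 2 :=
    calc ω = ω ^ 3 * ω := by rw [cube_one F hK, one_mul]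
      _ = _ := by rw [← pow_succ, ← pow_mul]
  obtain ⟨a0, a1, a2, a3, a4, a5⟩ := E6.node_tf
  rw [Equiv.symm_apply_eq] at a0 a1 a2 a3 a4 a5
  show chi ω (Frob.nodePerm E6.g i) = _
  rw [hu]
  rcases E6.node_cases i with rfl | rfl | rfl | rfl | rfl | rfl
  · rw [← a5]; rfl
  · rw [← a1]; exact (one_pow 2).symm
  · rw [← a4]; exact (one_pow 2).symm
  · rw [← a3]; exact (one_pow 2).symm
  · rw [← a2]; exact (one_pow 2).symm
  · rw [← a0]; exact h4

/-- The images of the rational subgroup. -/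
noncomputable def twSub (ω : Kˣ) : Subgroup (GL chevE6.Idx K) :=
  (ratSub F hK ι).map (MulAut.conj (E6.C.T K (chi ω))).toMonoidHom

theorem twSub_le (ω : Kˣ) : twSub F hK ι ω ≤ (E6.orth F one_lt_two hK).G1 :=
  (Subgroup.map_mono inf_le_left).trans (T_normalises _ _ (chi_twist F hK ω))

/-- Conjugate images have the same parameter. -/
theorem twSub_eq {a b : Kˣ} {g : GL chevE6.Idx K} (hg : g ∈ chevE6.group K)
    (h : (twSub F hK ι a).map (MulAut.conj g).toMonoidHom ≤ twSub F hK ι b) : a = b := by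
  set O := E6.orth F one_lt_two hK
  set Φ := Matrix.GeneralLinearGroup.map (n := chevE6.Idx) (φ : K →+* K)
  have hfix : ∀ z ∈ ratSub F hK ι, Φ z = z := by
    rintro _ ⟨-, x, -, rfl⟩
    exact Units.ext (Matrix.ext fun i j => φ_ι ι _)
  have hΦg : Φ g ∈ chevE6.group K := ChevAut.field_conj_mem E6.C (φ : K →+* K) hg
  have hΦT : ∀ c, Φ (E6.C.T K (chi c)) = E6.C.T K (chi (c ^ 2)) := by
    intro c
    rw [map_T]
    congr 1
    funext i
    show Units.map (φ : K →* K) (chi c i) = chi (c ^ 2) i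
    rw [show c ^ 2 = c * c from pow_two c, chi_mul, Pi.mul_apply]
    exact Units.ext (by simp [F.apply, pow_two])
  set n := (E6.C.T K (chi b))⁻¹ * g * E6.C.T K (chi a) with hn
  have hnorm : ∀ z ∈ ratSub F hK ι, n * z * n⁻¹ ∈ ratSub F hK ι := by
    intro z hz
    obtain ⟨y, hy, e⟩ := h ⟨_, ⟨z, hz, rfl⟩, rfl⟩
    simp only [MulEquiv.coe_toMonoidHom, MulAut.conj_apply] at e
    have e2 : n * z * n⁻¹ = y :=
      calc n * z * n⁻¹ = (E6.C.T K (chi b))⁻¹ *
            (g * (E6.C.T K (chi a) * z * (E6.C.T K (chi a))⁻¹) * g⁻¹) * E6.C.T K (chi b) := by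
            rw [hn]; group
        _ = _ := by rw [← e]; group
    rwa [e2]
  set c := n⁻¹ * Φ n with hc
  have hcent : ∀ z ∈ ratSub F hK ι, c * z = z * c := by
    intro z hz
    have h1 := hfix _ (hnorm z hz)
    rw [map_mul, map_mul, map_inv, hfix z hz] at h1
    calc c * z = n⁻¹ * (Φ n * z * (Φ n)⁻¹) * Φ n := by rw [hc]; group
      _ = _ := by rw [h1, hc]; group
  have hTm : ∀ x y : Kˣ, E6.C.T K (chi (x * y)) = E6.C.T K (chi x) * E6.C.T K (chi y) := fun x y => by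
    rw [chi_mul, T_mul]
  have hTi : ∀ x : Kˣ, (E6.C.T K (chi x))⁻¹ = E6.C.T K (chi x⁻¹) := fun x =>
    inv_eq_of_mul_eq_one_right (by rw [← hTm, mul_inv_cancel, chi_one, T_one])
  have h3 : ∀ x : Kˣ, x ^ 2 = x⁻¹ := fun x =>
    eq_inv_of_mul_eq_one_left (by rw [← pow_succ, cube_one F hK])
  -- the centralising element as an element of the group times a diagonal element
  set e := a⁻¹ * b * (b ^ 2)⁻¹ * a ^ 2 with he
  set G := (E6.C.T K (chi a⁻¹) * g⁻¹ * (E6.C.T K (chi a⁻¹))⁻¹) *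
    (E6.C.T K (chi (a⁻¹ * b * (b ^ 2)⁻¹)) * Φ g * (E6.C.T K (chi (a⁻¹ * b * (b ^ 2)⁻¹)))⁻¹) with hG
  have hGm : G ∈ chevE6.group K :=
    mul_mem (ChevAut.T_conj_mem E6.C _ (inv_mem hg)) (ChevAut.T_conj_mem E6.C _ hΦg)
  have hform : c = G * E6.C.T K (chi e) := by
    rw [hc, hn, map_mul, map_mul, map_inv, hΦT, hΦT, hG, he]
    simp only [hTm, ← hTi]
    group
  obtain ⟨-, c₀, hc₀⟩ := centralises_trivial O (xS_one_mem F hK ι) (orbit_mem F hK ι) hGm (chi e)
    (fun z hz => by rw [← hform]; exact hcent z hz)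
  have hinv : ∏ m, chi e m ^ E6.invA ⟨0, by decide⟩ m = 1 := by
    simp only [hc₀]
    rw [prod_chA, show (3 : ℤ) = ((3 : ℕ) : ℤ) from rfl, zpow_natCast, cube_one F hK]
  have hval : ∏ m, chi e m ^ E6.invA ⟨0, by decide⟩ m = e ^ 2 :=
    calc ∏ m, chi e m ^ E6.invA ⟨0, by decide⟩ m = e ^ (4 : ℤ) * 1 * 1 * 1 * 1 * (e ^ 2) ^ (2 : ℤ) := by
          refine (Fin.prod_univ_six _).trans ?_
          simp [chi, E6.invA]
          rfl
      _ = e ^ 2 * (e ^ 3) ^ 2 := by
          simp only [mul_one, show (4 : ℤ) = ((4 : ℕ) : ℤ) from rfl, show (2 : ℤ) = ((2 : ℕ) : ℤ) from rfl,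
            zpow_natCast, ← pow_mul, ← pow_add]
      _ = e ^ 2 := by rw [cube_one F hK, one_pow, mul_one]
  have he1 : e = 1 := by
    rw [hval, h3, inv_eq_one] at hinv
    exact hinv
  rw [he, h3, h3, inv_inv] at he1
  have h2 : (a⁻¹ * b) ^ 2 = 1 := by rw [← he1, pow_two]; ac_rfl
  rw [h3, inv_eq_one, inv_mul_eq_one] at h2
  exact h2

end Main

end Cfsg.Agent.Lib.TwMax.E6F4
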