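import Cfsg.Agent.Lib.LieTwisted.Twist.Orth

/-!
An element of a Chevalley group times a diagonal element which commutes with the orbit root elements
of parameter one and with the orbit monomials of a twisted group is trivial.
-/

set_option autoImplicit false
set_option linter.unusedSectionVars false

namespace Cfsg.Agent.Lib.TwMax

open Cfsg.Lie
open Cfsg.Agent.Lib.ChevStructure Cfsg.Agent.Lib.LieTwisted.Twist
open scoped MatrixGroups

variable {D : ChevalleyDatum}

section General

variable (C : Core D) {K : Type*} [Field K]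
include C

theorem T_mul (χ ψ : Fin D.rank → Kˣ) : C.T K χ * C.T K ψ = C.T K (χ * ψ) := by
  rw [Core.T, Core.T, Core.T, C.diag_mul]
  congr 1
  funext s
  simp [Core.chr, Finset.prod_mul_distrib, mul_zpow]

theorem T_one : C.T K 1 = 1 := by
  rw [Core.T, ← C.diag_one K]
  congr 1
  funext s
  simp [Core.chr]

/-- The torus of the adjoint group. -/
def Thom : (Fin D.rank → Kˣ) →* GL D.Idx K where
  toFun := C.T K
  map_one' := T_one C
  map_mul' χ ψ := (T_mul C χ ψ).symm

theorem chr_p (χ : Fin D.rank → Kˣ) (i : Fin D.rank) : C.chr K χ (C.p i) = χ i := by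
  rw [Core.chr, Finset.prod_eq_single i (fun m _ hm => by simp [C.v_p, hm]) (by simp)]
  simp [C.v_p]

theorem acts_T (χ : Fin D.rank → Kˣ) : C.Acts (C.T K χ) 1 := fun r =>
  ⟨C.chr K χ r, fun t => C.T_X_conj K χ r t⟩

/-- A word conjugates diagonal elements to diagonal elements. -/
theorem wprod_diag (L : List (Fin D.rank)) (d : Rt D → Kˣ) :
    ∃ e, C.wprod K L * Core.diag K d * (C.wprod K L)⁻¹ = Core.diag K e := by
  induction L with
  | nil => exact ⟨d, by simp [Core.wprod]⟩
  | cons a L ih =>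
    obtain ⟨e, he⟩ := ih
    refine ⟨fun s => e (C.w a s), ?_⟩
    rw [← C.P_diag_conj K a e, ← he, C.wprod_cons]
    group

/-- Positive unipotent, negative unipotent, diagonal: only the trivial way. -/
theorem eq_one_of_neg_diag {v v' : GL D.Idx K} (hv : v ∈ C.US K C.Pos) (hv' : v' ∈ C.US K C.Neg)
    {d : Rt D → Kˣ} (e : v = v' * Core.diag K d) : v = 1 := by
  have hU := (C.posUS_le_upperU hv).1
  have hL := (C.negUS_le_upperU hv').1
  apply Units.ext
  rw [Units.val_one]
  refine sub_eq_zero.1 (Matrix.ext fun a b => ?_)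
  by_contra hne
  have h1 : 1 * C.fht b + 0 < 1 * C.fht a := hU a b hne
  have hab : a ≠ b := fun h => by subst h; omega
  have h2 : ((v' : GL D.Idx K) : Matrix D.Idx D.Idx K) a b ≠ 0 := by
    intro h0
    refine hne ?_
    rw [e]
    simp [Core.diag, Matrix.mul_diagonal, h0, Matrix.one_apply_ne hab]
  have h3 : (-1) * C.fht b + 0 < (-1) * C.fht a := hL a b (by simpa [Matrix.one_apply_ne hab] using h2)
  omega

variable (H : CommOK C)
include H

theorem posU_normalizes (i : Fin D.rank) :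
    C.US K C.Pos ≤ Subgroup.normalizer (C.US K (C.posBut i) : Set (GL D.Idx K)) := by
  rw [← H.posBut_sup i]
  exact sup_le Subgroup.le_normalizer (le_sup_left.trans (H.root_le_normalizer i))

theorem X_p_not_mem (i : Fin D.rank) {t : K} (h : C.X K (C.p i) t ∈ C.US K (C.posBut i)) : t = 0 := by
  have hP : C.Acts (C.P K i) (C.sref i) := by simpa [Core.wprod, Core.pprod] using C.acts_wprod K [i]
  have h1 := C.conj_mem_US K hP (T := C.Pos) (fun r hr => (C.w_posBut hr).1) h
  rw [C.P_X_conj, C.w_p, C.η_p] at h1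
  have := C.X_neg_mem_borel (C.rev_neg (C.p_pos i)) (C.posUS_le_borel h1)
  simpa using this

theorem prod_p_mem (L : List (Fin D.rank)) (t : Fin D.rank → K) :
    (L.map fun j => C.X K (C.p j) (t j)).prod ∈ C.US K C.Pos := by
  refine list_prod_mem fun x hx => ?_
  rw [List.mem_map] at hx
  obtain ⟨j, -, rfl⟩ := hx
  exact C.X_mem_US K (C.p_pos j) _

theorem prod_p_coord (i : Fin D.rank) : ∀ (L : List (Fin D.rank)), L.Nodup → ∀ t : Fin D.rank → K,
    (L.map fun j => C.X K (C.p j) (t j)).prod * (C.X K (C.p i) (if i ∈ L then t i else 0))⁻¹ ∈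
      C.US K (C.posBut i)
  | [], _, _ => by simp [C.X_zero, one_mem]
  | a :: L, hnd, t => by
    obtain ⟨ha, hnd'⟩ := List.nodup_cons.1 hnd
    have ih := prod_p_coord i L hnd' t
    rw [List.map_cons, List.prod_cons]
    set P := (L.map fun j => C.X K (C.p j) (t j)).prod
    by_cases hai : a = i
    · subst hai
      rw [if_neg ha, C.X_zero, inv_one, mul_one] at ih
      rw [if_pos List.mem_cons_self]
      exact (Subgroup.mem_normalizer_iff.1
        (posU_normalizes C H a (C.X_mem_US K (C.p_pos a) _)) P).1 ih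
    · have hmem : i ∈ a :: L ↔ i ∈ L := by simp [Ne.symm hai]
      simp only [hmem]
      rw [mul_assoc]
      exact mul_mem (C.X_mem_US K (S := C.posBut i) ⟨C.p_pos a, fun h => hai (C.p_inj h)⟩ _) ih

/-- The coefficient at a simple root is determined modulo the other roots. -/
theorem coord_unique (i : Fin D.rank) {t s : K} {g : GL D.Idx K}
    (h : g * (C.X K (C.p i) t)⁻¹ ∈ C.US K (C.posBut i))
    (h' : g * (C.X K (C.p i) s)⁻¹ ∈ C.US K (C.posBut i)) : t = s := by
  have h2 := mul_mem (inv_mem h') h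
  have e : (g * (C.X K (C.p i) s)⁻¹)⁻¹ * (g * (C.X K (C.p i) t)⁻¹) = C.X K (C.p i) (s + -t) := by
    rw [← C.X_add, ← C.X_inv]
    group
  rw [e] at h2
  have := X_p_not_mem C H i h2
  exact (eq_of_sub_eq_zero (by rw [sub_eq_add_neg]; exact this)).symm

end General

section Twisted

variable {C : Core D} {K : Type*} [Field K] [Finite K] (O : Orth C K)
include O

/-- The nodes, orbit after orbit. -/
def nodeList : List (Fin D.rank) := (List.finRange O.nn).flatMap O.Jl

theorem mem_nodeList (i : Fin D.rank) : i ∈ nodeList O :=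
  List.mem_flatMap.2 ⟨O.idx i, List.mem_finRange _, (O.mem_Jl i _).2 rfl⟩

theorem nodeList_nodup : (nodeList O).Nodup := by
  refine List.nodup_flatMap.2 ⟨fun m _ => O.Jl_nodup m, ?_⟩
  refine List.Pairwise.imp (R := (· ≠ ·)) (fun {a b} hab => ?_) (List.nodup_finRange _)
  intro x hx hx'
  exact hab (((O.mem_Jl x a).1 hx).symm.trans ((O.mem_Jl x b).1 hx'))

/-- The product of all simple root elements of parameter one. -/
def regU : GL D.Idx K := ((nodeList O).map fun j => C.X K (C.p j) (1 : K)).prod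

theorem regU_mem_of {M : Subgroup (GL D.Idx K)} (hy : ∀ m, O.xS false (O.os m) 1 ∈ M) : regU O ∈ M := by
  have e : regU O = ((List.finRange O.nn).map fun m => O.xS false (O.os m) 1).prod := by
    rw [regU, nodeList, List.map_flatMap, List.flatMap_def, List.prod_flatten, List.map_map]
    refine congrArg List.prod (List.map_congr_left fun m _ => ?_)
    rw [Function.comp_apply, Orth.Jl, List.map_map, Orth.xS, Orth.oprod]
    refine congrArg List.prod (List.map_congr_left fun k _ => ?_)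
    rw [Function.comp_apply, O.φ_iter_one]
    rfl
  rw [e]
  exact list_prod_mem fun x hx => by
    rw [List.mem_map] at hx
    obtain ⟨m, -, rfl⟩ := hx
    exact hy m

theorem exists_word_rep {M : Subgroup (GL D.Idx K)} (hn : ∀ m, C.wprod K (O.Jl m) ∈ M)
    {σ : Equiv.Perm (Rt D)} (hσ : σ ∈ O.tw.WT) : ∃ L, C.pprod L = σ ∧ C.wprod K L ∈ M := by
  refine O.tw.WT_induction (fun σ => ∃ L, C.pprod L = σ ∧ C.wprod K L ∈ M)
    ⟨[], C.pprod_nil, by simp [Core.wprod, one_mem]⟩ ?_ σ hσ
  rintro σ - i - ⟨L, hL, hLM⟩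
  refine ⟨L ++ O.Jl (O.idx i), ?_, by rw [C.wprod_append]; exact mul_mem hLM (hn _)⟩
  rw [C.pprod_append, hL, mul_assoc]
  show σ * (O.tw.wO (O.idx i) * O.tw.wO (O.idx i)) = σ
  rw [show O.tw.wO (O.idx i) * O.tw.wO (O.idx i) = 1 from O.Jl_inv _, mul_one]

variable {M : Subgroup (GL D.Idx K)} (hy : ∀ m, O.xS false (O.os m) 1 ∈ M)
  (hn : ∀ m, C.wprod K (O.Jl m) ∈ M)
include hy hn

/-- An element of the group extended by the diagonal elements centralising `M` is trivial. -/
theorem centralises_trivial {g : GL D.Idx K} (hg : g ∈ D.group K) (χ : Fin D.rank → Kˣ)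
    (hc : ∀ x ∈ M, g * C.T K χ * x = x * (g * C.T K χ)) :
    g * C.T K χ = 1 ∧ ∃ c : Fin D.rank → Kˣ, ∀ i, χ i = C.chA c (C.p i) := by
  have H := O.comm
  obtain ⟨σ, b, hb, u₀, hu₀, rfl⟩ := H.exists_normalForm hg
  set y := regU O with hy'
  have hyU : y ∈ C.US K C.Pos := prod_p_mem C H _ _
  -- the Weyl group component is trivial
  have hσ : (σ : Equiv.Perm (Rt D)) = 1 := by
    by_contra hne
    obtain ⟨L, hL⟩ := C.mem_WG_iff.1 σ.2
    obtain ⟨i, hi⟩ := C.exists_descent (L := L) (by rwa [hL])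
    rw [hL] at hi
    obtain ⟨w, hw, k, hk, rfl⟩ := C.mem_borel_iff.1 hb
    set u := (C.T K χ)⁻¹ * u₀ * C.T K χ with hu'
    have hu : u ∈ C.US K (C.inv' (σ : Equiv.Perm (Rt D))) := by
      have h0 := C.conj_mem_US K (C.acts_inv K (acts_T C χ)) (T := C.inv' (σ : Equiv.Perm (Rt D)))
        (fun r hr => by simpa using hr) hu₀
      rwa [inv_inv] at h0
    set m := k * C.rep K σ * C.T K χ with hm'
    have hm : C.Acts m (σ : Equiv.Perm (Rt D)) := by
      have := C.acts_mul K (C.acts_mul K (C.acts_diagonal hk) (C.acts_rep K σ)) (acts_T C χ)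
      simpa using this
    have e : w * k * C.rep K σ * u₀ * C.T K χ = w * m * u := by rw [hm', hu']; group
    have hcy := hc y (regU_mem_of O hy)
    rw [e] at hcy
    have huU : u ∈ C.US K C.Pos := C.US_mono K (fun r hr => hr.1) hu
    have hy1 : u * y * u⁻¹ ∈ C.US K C.Pos := mul_mem (mul_mem huU hyU) (inv_mem huU)
    have hy2 : m * (u * y * u⁻¹) * m⁻¹ ∈ C.US K C.Pos := by
      have e2 : m * (u * y * u⁻¹) * m⁻¹ = w⁻¹ * y * w :=
        calc m * (u * y * u⁻¹) * m⁻¹ = w⁻¹ * (w * m * u * y) * u⁻¹ * m⁻¹ := by group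
          _ = _ := by rw [hcy]; group
      rw [e2]
      exact mul_mem (mul_mem (inv_mem hw) hyU) hw
    obtain ⟨a, ha, v, hv, e3⟩ := H.exists_factor (A := {r | (σ : Equiv.Perm (Rt D)) r ∈ C.Pos})
      (S := {r | (σ : Equiv.Perm (Rt D)) r ∈ C.Neg}) (fun r _ => (em _).imp_right (C.neg_iff_not_pos _).2) hy1
    have ha' : m * a * m⁻¹ ∈ C.US K C.Pos := C.conj_mem_US K hm (fun r hr => hr.1) ha
    have hv' : m * v * m⁻¹ ∈ C.US K C.Neg := C.conj_mem_US K hm (fun r hr => hr.1) hv
    have hv1 : m * v * m⁻¹ = 1 := by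
      rw [← Subgroup.mem_bot, ← C.borel_inf_negUS]
      refine Subgroup.mem_inf.2 ⟨C.posUS_le_borel ?_, hv'⟩
      have e4 : m * v * m⁻¹ = (m * a * m⁻¹)⁻¹ * (m * (u * y * u⁻¹) * m⁻¹) := by rw [e3]; group
      rw [e4]
      exact mul_mem (inv_mem ha') hy2
    rw [conj_eq_one_iff] at hv1
    rw [hv1, mul_one] at e3
    have hbut : u * y * u⁻¹ ∈ C.US K (C.posBut i) := by
      rw [e3]
      refine C.US_mono K (fun r hr => ?_) ha
      refine ⟨hr.2, fun hri => ?_⟩
      rw [Set.mem_singleton_iff] at hri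
      subst hri
      exact (C.neg_iff_not_pos _).1 hi hr.1
    have hyb : y ∈ C.US K (C.posBut i) :=
      (Subgroup.mem_normalizer_iff.1 (posU_normalizes C H i huU) y).2 hbut
    have h1 := prod_p_coord C H i (nodeList O) (nodeList_nodup O) (fun _ => (1 : K))
    rw [if_pos (mem_nodeList O i)] at h1
    exact one_ne_zero (coord_unique C H i (t := (1 : K)) (s := 0) h1
      (show y * (C.X K (C.p i) 0)⁻¹ ∈ _ by rwa [C.X_zero, inv_one, mul_one]))
  have hgB : b * C.rep K σ * u₀ ∈ D.borelSubgroup K := by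
    refine mul_mem (mul_mem hb (C.diagonal_le_borel ?_)) (C.posUS_le_borel (C.US_mono K (fun r hr => hr.1) hu₀))
    exact C.mem_diagonal_of_acts_one (C.rep_mem σ) (hσ ▸ C.acts_rep K σ)
  obtain ⟨v, hv, k, hk, e⟩ := C.mem_borel_iff.1 hgB
  obtain ⟨c₀, rfl⟩ := C.mem_diagonal_iff.1 hk
  rw [e] at hc ⊢
  rw [C.HT_eq_T] at hc ⊢
  set ψ : Fin D.rank → Kˣ := (fun m => C.chA c₀ (C.p m)) * χ with hψ
  have eT : v * C.T K (fun m => C.chA c₀ (C.p m)) * C.T K χ = v * C.T K ψ := by rw [mul_assoc, T_mul]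
  rw [eT] at hc ⊢
  -- the unipotent component is trivial
  obtain ⟨w₀, hw₀, hinv⟩ := O.tw.exists_longest
  obtain ⟨L, hL, hLM⟩ := exists_word_rep O hn hw₀
  set n := C.wprod K L
  obtain ⟨d, hd⟩ := wprod_diag C L (C.chr K ψ)
  have hv1 : v = 1 := by
    refine eq_one_of_neg_diag C hv (v' := n * v * n⁻¹) (d := d * (C.chr K ψ)⁻¹) ?_ ?_
    · refine C.conj_mem_US K (C.acts_wprod K L) (fun r hr => ?_) hv
      rw [hL]
      exact (hinv.symm ▸ hr : r ∈ C.inv' w₀).2
    · rw [← C.diag_mul, ← hd, ← C.diag_inv]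
      show v = n * v * n⁻¹ * (n * C.T K ψ * n⁻¹ * (C.T K ψ)⁻¹)
      calc v = v * C.T K ψ * n * n⁻¹ * (C.T K ψ)⁻¹ := by group
        _ = _ := by rw [hc n hLM]; group
  rw [hv1, one_mul] at hc ⊢
  have hcy := hc y (regU_mem_of O hy)
  have hone : ψ = 1 := by
    funext i
    have h1 := prod_p_coord C H i (nodeList O) (nodeList_nodup O) (fun _ => (1 : K))
    have h2 := prod_p_coord C H i (nodeList O) (nodeList_nodup O) (fun j => (ψ j : K))
    rw [if_pos (mem_nodeList O i)] at h1 h2
    have e2 : ((nodeList O).map fun j => C.X K (C.p j) (ψ j : K)).prod = y := by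
      have e3 : C.T K ψ * y * (C.T K ψ)⁻¹ = y := by rw [hcy, mul_inv_cancel_right]
      refine Eq.trans ?_ e3
      show _ = MulAut.conj (C.T K ψ) y
      rw [hy', regU, map_list_prod, List.map_map]
      refine congrArg List.prod (List.map_congr_left fun j _ => ?_)
      show _ = C.T K ψ * C.X K (C.p j) 1 * (C.T K ψ)⁻¹
      rw [C.T_X_conj, chr_p C, mul_one]
    rw [e2] at h2
    exact Units.ext (coord_unique C H i h2 h1)
  refine ⟨by rw [hone]; exact T_one C, c₀⁻¹, fun i => ?_⟩
  have h := congrFun hone i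
  rw [hψ, Pi.mul_apply, Pi.one_apply, mul_eq_one_iff_inv_eq] at h
  rw [← h]
  simp [Core.chA, Finset.prod_inv_distrib]

end Twisted

end Cfsg.Agent.Lib.TwMax
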